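import Mathlib.RingTheory.Etale.StandardEtale
import Mathlib.RingTheory.Filtration
import Mathlib.RingTheory.MvPolynomial.Ideal
import Mathlib.RingTheory.FiniteType
import Mathlib.RingTheory.Polynomial.Basic

/-!
A point of a standard étale algebra over a polynomial ring: elements with vanishing formal expansion
vanish near the point.
-/

set_option autoImplicit false
set_option linter.style.haveILetI false

universe u

open MvPolynomial

namespace Groth.Agent.QRSmooth5

variable {σ : Type} {R : Type u} [CommRing R]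

/-- The ideal of the origin. -/
noncomputable abbrev orig (σ : Type) (R : Type u) [CommRing R] : Ideal (MvPolynomial σ R) :=
  RingHom.ker (MvPolynomial.constantCoeff (σ := σ) (R := R))

theorem orig_eq : orig σ R = idealOfVars σ R := by
  ext x
  rw [RingHom.mem_ker, ← pow_one (idealOfVars σ R), mem_pow_idealOfVars_iff' 1 x]
  constructor
  · intro h d hd
    obtain rfl : d = 0 := (Finsupp.degree_eq_zero_iff d).1 (by omega)
    exact h
  · intro h
    exact h 0 (by simp)

theorem map_mem_orig_pow_iff {R' : Type u} [CommRing R'] (ι : R →+* R') (hι : Function.Injective ι) (t : ℕ)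
    (x : MvPolynomial σ R) : MvPolynomial.map ι x ∈ orig σ R' ^ t ↔ x ∈ orig σ R ^ t := by
  simp only [orig_eq, mem_pow_idealOfVars_iff', MvPolynomial.coeff_map]
  exact forall₂_congr fun d _ => map_eq_zero_iff ι hι

theorem isNilpotent_ker_factor {A : Type u} [CommRing A] (I : Ideal A) {s : ℕ} (hs : I ^ s ≤ I) :
    IsNilpotent (RingHom.ker (Ideal.Quotient.factor hs)) :=
  ⟨s, by
    have h : RingHom.ker (Ideal.Quotient.factor hs) ≤ I.map (Ideal.Quotient.mk (I ^ s)) := fun x hx => by
      obtain ⟨a, rfl⟩ := Ideal.Quotient.mk_surjective x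
      rw [RingHom.mem_ker, Ideal.Quotient.factor_mk, Ideal.Quotient.eq_zero_iff_mem] at hx
      exact Ideal.mem_map_of_mem _ hx
    have h2 := Ideal.pow_right_mono h s
    rw [← Ideal.map_pow, Ideal.map_quotient_self] at h2
    exact le_bot_iff.1 h2⟩

/-- Noetherian base. -/
theorem exists_kill_noetherian [Finite σ] [IsNoetherianRing R] (P : StandardEtalePair (MvPolynomial σ R))
    (e : P.Ring →ₐ[MvPolynomial σ R] MvPolynomial σ R ⧸ orig σ R) (y : P.Ring)
    (hy : ∀ (t : ℕ) (φ : P.Ring →ₐ[MvPolynomial σ R] MvPolynomial σ R ⧸ orig σ R ^ (t + 1)),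
      (Ideal.Quotient.factorₐ _ (Ideal.pow_le_self t.succ_ne_zero)).comp φ = e → φ y = 0) :
    ∃ w, e w = 1 ∧ w * y = 0 := by
  haveI : IsNoetherianRing P.Ring := Algebra.FiniteType.isNoetherianRing (MvPolynomial σ R) _
  let J : Ideal P.Ring := RingHom.ker e
  have hmem : ∀ t : ℕ, y ∈ J ^ (t + 1) := by
    intro t
    have hn := isNilpotent_ker_factor (orig σ R) (Ideal.pow_le_self t.succ_ne_zero)
    let φ := Algebra.FormallySmooth.liftOfSurjective e
      (Ideal.Quotient.factorₐ (MvPolynomial σ R) (Ideal.pow_le_self t.succ_ne_zero) :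
        MvPolynomial σ R ⧸ orig σ R ^ (t + 1) →ₐ[MvPolynomial σ R] _)
      (Ideal.Quotient.factor_surjective (Ideal.pow_le_self t.succ_ne_zero)) hn
    have hφ := Algebra.FormallySmooth.comp_liftOfSurjective e
      (Ideal.Quotient.factorₐ (MvPolynomial σ R) (Ideal.pow_le_self t.succ_ne_zero) :
        MvPolynomial σ R ⧸ orig σ R ^ (t + 1) →ₐ[MvPolynomial σ R] _)
      (Ideal.Quotient.factor_surjective (Ideal.pow_le_self t.succ_ne_zero)) hn
    have hle : orig σ R ^ (t + 1) ≤
        RingHom.ker (algebraMap (MvPolynomial σ R) (P.Ring ⧸ J ^ (t + 1))) := by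
      intro x hx
      rw [RingHom.mem_ker, IsScalarTower.algebraMap_apply _ P.Ring, Ideal.Quotient.algebraMap_eq,
        Ideal.Quotient.eq_zero_iff_mem]
      have h1 : (orig σ R).map (algebraMap (MvPolynomial σ R) P.Ring) ≤ J := Ideal.map_le_iff_le_comap.2 fun z hz => by
        rw [Ideal.mem_comap, RingHom.mem_ker, AlgHom.commutes]
        exact Ideal.Quotient.eq_zero_iff_mem.2 hz
      have h2 := Ideal.mem_map_of_mem (algebraMap (MvPolynomial σ R) P.Ring) hx
      rw [Ideal.map_pow] at h2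
      exact Ideal.pow_right_mono h1 _ h2
    let ψ : MvPolynomial σ R ⧸ orig σ R ^ (t + 1) →ₐ[MvPolynomial σ R] P.Ring ⧸ J ^ (t + 1) :=
      Ideal.Quotient.liftₐ _ (Algebra.ofId _ _) hle
    have hu : ψ.comp φ = Ideal.Quotient.mkₐ _ (J ^ (t + 1)) := by
      refine Algebra.FormallyUnramified.lift_unique'
        (Ideal.Quotient.factorₐ (MvPolynomial σ R) (Ideal.pow_le_self t.succ_ne_zero) :
          P.Ring ⧸ J ^ (t + 1) →ₐ[MvPolynomial σ R] P.Ring ⧸ J)
        (isNilpotent_ker_factor J (Ideal.pow_le_self t.succ_ne_zero)) _ _ ?_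
      refine AlgHom.ext fun z => ?_
      obtain ⟨s, hs⟩ := Ideal.Quotient.mk_surjective (φ z)
      have he : e z = Ideal.Quotient.mk _ s := by
        rw [← hφ]
        show Ideal.Quotient.factor (Ideal.pow_le_self t.succ_ne_zero) (φ z) = _
        rw [← hs, Ideal.Quotient.factor_mk]
      show Ideal.Quotient.factor (Ideal.pow_le_self t.succ_ne_zero) (ψ (φ z)) =
        Ideal.Quotient.factor (Ideal.pow_le_self t.succ_ne_zero) (Ideal.Quotient.mk (J ^ (t + 1)) z)
      rw [← hs]
      show Ideal.Quotient.factor (Ideal.pow_le_self t.succ_ne_zero)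
        (Ideal.Quotient.mk (J ^ (t + 1)) (algebraMap (MvPolynomial σ R) P.Ring s)) = _
      rw [Ideal.Quotient.factor_mk, Ideal.Quotient.factor_mk, Ideal.Quotient.eq, RingHom.mem_ker, map_sub,
        AlgHom.commutes, he]
      exact sub_self _
    have h0 := DFunLike.congr_fun hu y
    rw [AlgHom.comp_apply, hy t φ hφ, map_zero] at h0
    exact Ideal.Quotient.eq_zero_iff_mem.1 h0.symm
  have hinf : y ∈ (⨅ i : ℕ, J ^ i • (⊤ : Submodule P.Ring P.Ring)) := by
    rw [Submodule.mem_iInf]
    intro i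
    rcases i with _ | t
    · simp
    · rw [smul_eq_mul, Ideal.mul_top]; exact hmem t
  obtain ⟨⟨r, hr⟩, hry⟩ := (J.mem_iInf_smul_pow_eq_bot_iff y).1 hinf
  refine ⟨1 - r, by rw [map_sub, map_one, RingHom.mem_ker.1 hr, sub_zero], ?_⟩
  rw [sub_mul, one_mul, ← smul_eq_mul r y, hry, sub_self]

theorem exists_root_lift {R₀ : Type u} [CommRing R₀] (ι : R₀ →+* R)
    (p : Polynomial (MvPolynomial σ R)) (h : ∀ n d, (p.coeff n).coeff d ∈ Set.range ι) :
    p ∈ Polynomial.lifts (MvPolynomial.map (σ := σ) ι) :=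
  (Polynomial.lifts_iff_coeff_lifts p).2 fun n =>
    MvPolynomial.mem_range_map_iff_coeffs_subset.2 fun x hx => by
      obtain ⟨d, -, rfl⟩ := MvPolynomial.mem_coeffs_iff.1 hx
      exact h n d

/-- Any base: an element with vanishing formal expansion at the point is killed by a function equal to `1` there. -/
theorem exists_kill [Finite σ] (P : StandardEtalePair (MvPolynomial σ R))
    (e : P.Ring →ₐ[MvPolynomial σ R] MvPolynomial σ R ⧸ orig σ R) (y : P.Ring)
    (hy : ∀ (t : ℕ) (φ : P.Ring →ₐ[MvPolynomial σ R] MvPolynomial σ R ⧸ orig σ R ^ (t + 1)),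
      (Ideal.Quotient.factorₐ _ (Ideal.pow_le_self t.succ_ne_zero)).comp φ = e → φ y = 0) :
    ∃ w, e w = 1 ∧ w * y = 0 := by
  classical
  rcases subsingleton_or_nontrivial R with hR | hR
  · refine ⟨0, ?_, zero_mul y⟩
    haveI : Subsingleton (MvPolynomial σ R ⧸ orig σ R) := (Ideal.Quotient.mk (orig σ R)).codomain_trivial
    exact Subsingleton.elim _ _
  let S := MvPolynomial σ R
  haveI : Nontrivial S := inferInstanceAs (Nontrivial (MvPolynomial σ R))
  -- numerators suffice
  obtain ⟨p, n, hn⟩ := StandardEtalePresentation.exists_mul_aeval_x_g_pow_eq_aeval_x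
    ({ P with x := P.X, hasMap := P.hasMap_X,
              lift_bijective := by rw [P.lift_X_left]; exact Function.bijective_id } :
      StandardEtalePresentation S P.Ring) y
  suffices ∃ w, e w = 1 ∧ w * Polynomial.aeval P.X p = 0 by
    obtain ⟨w, hw, hw0⟩ := this
    refine ⟨w, hw, ?_⟩
    have hU : IsUnit (Polynomial.aeval P.X P.g ^ n) := P.hasMap_X.2.pow n
    rw [← hU.mul_left_eq_zero, mul_assoc]
    have : y * Polynomial.aeval P.X P.g ^ n = Polynomial.aeval P.X p := hn
    rw [this]; exact hw0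
  replace hy : ∀ (t : ℕ) (φ : P.Ring →ₐ[S] S ⧸ orig σ R ^ (t + 1)),
      (Ideal.Quotient.factorₐ _ (Ideal.pow_le_self t.succ_ne_zero)).comp φ = e → φ (Polynomial.aeval P.X p) = 0 := by
    intro t φ hφ
    have hn' : y * Polynomial.aeval P.X P.g ^ n = Polynomial.aeval P.X p := hn
    rw [← hn', map_mul, hy t φ hφ, zero_mul]
  -- the point
  obtain ⟨s₀, hs₀⟩ := Ideal.Quotient.mk_surjective (e P.X)
  let r₀ := MvPolynomial.constantCoeff s₀
  have heX : e P.X = Ideal.Quotient.mk _ (C r₀) := by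
    rw [← hs₀, Ideal.Quotient.eq, RingHom.mem_ker, map_sub, constantCoeff_C, sub_self]
  have hev : ∀ q : Polynomial S, e (Polynomial.aeval P.X q) = Ideal.Quotient.mk _ (q.eval (C r₀)) := fun q => by
    rw [← Polynomial.aeval_algHom_apply, heX]
    exact Polynomial.aeval_algebraMap_apply_eq_algebraMap_eval _ _
  have hunit : IsUnit (constantCoeff (P.g.eval (C r₀))) := by
    have h1 := P.hasMap_X.2.map e
    rw [hev] at h1
    exact h1.map (Ideal.Quotient.lift (orig σ R) (MvPolynomial.constantCoeff (σ := σ)) fun a ha => ha)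
  have hroot : constantCoeff (P.f.eval (C r₀)) = 0 := by
    have h1 := congrArg e P.hasMap_X.1
    rw [hev, map_zero] at h1
    exact Ideal.Quotient.eq_zero_iff_mem.1 h1
  obtain ⟨p₁, p₂, m, hc⟩ := P.cond
  -- the small base
  let cs : Polynomial S → Set R := fun q => ⋃ k ∈ q.support, ((q.coeff k).coeffs : Set R)
  have hcs : ∀ q, (cs q).Finite := fun q => q.support.finite_toSet.biUnion fun k _ => Finset.finite_toSet _
  let G : Set R := cs P.f ∪ cs P.g ∪ cs p₁ ∪ cs p₂ ∪ cs p ∪ {r₀, ((hunit.unit⁻¹ : Rˣ) : R)}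
  have hG : G.Finite := (((((hcs _).union (hcs _)).union (hcs _)).union (hcs _)).union (hcs _)).union (Set.toFinite _)
  let R₀ := Algebra.adjoin ℤ G
  haveI : Algebra.FiniteType ℤ R₀ :=
    R₀.fg_iff_finiteType.1 ⟨hG.toFinset, by rw [Set.Finite.coe_toFinset]⟩
  haveI : IsNoetherianRing R₀ := Algebra.FiniteType.isNoetherianRing ℤ R₀
  let i₀ : R₀ →+* R := R₀.val.toRingHom
  have hi : Function.Injective i₀ := Subtype.val_injective
  let ι : MvPolynomial σ R₀ →+* S := MvPolynomial.map i₀
  have hι : Function.Injective ι := MvPolynomial.map_injective _ hi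
  have hlift : ∀ q : Polynomial S, cs q ⊆ G → q ∈ Polynomial.lifts ι := fun q hq => by
    refine exists_root_lift i₀ q fun k d => ?_
    by_cases hd : (q.coeff k).coeff d = 0
    · exact ⟨0, by rw [map_zero, hd]⟩
    have hk : k ∈ q.support := Polynomial.mem_support_iff.2 fun h => hd (by simp [h])
    exact ⟨⟨_, Algebra.subset_adjoin (hq (Set.mem_biUnion hk (coeff_mem_coeffs d hd)))⟩, rfl⟩
  obtain ⟨f', hf', -, hfm⟩ := Polynomial.lifts_and_degree_eq_and_monic
    (hlift P.f fun x hx => by simp [G, hx]) P.monic_f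
  obtain ⟨g', hg'⟩ := hlift P.g fun x hx => by simp [G, hx]
  obtain ⟨p₁', hp₁'⟩ := hlift p₁ fun x hx => by simp [G, hx]
  obtain ⟨p₂', hp₂'⟩ := hlift p₂ fun x hx => by simp [G, hx]
  obtain ⟨p', hp'⟩ := hlift p fun x hx => by simp [G, hx]
  simp only [Polynomial.coe_mapRingHom] at hg' hp₁' hp₂' hp'
  let P₀ : StandardEtalePair (MvPolynomial σ R₀) :=
    { f := f'
      monic_f := hfm
      g := g'
      cond := ⟨p₁', p₂', m, Polynomial.map_injective ι hι (by
        rw [Polynomial.map_add, Polynomial.map_mul, Polynomial.map_mul, Polynomial.map_pow,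
          ← Polynomial.derivative_map, hf', hg', hp₁', hp₂', hc])⟩ }
  let a₀ : R₀ := ⟨r₀, Algebra.subset_adjoin (by simp [G])⟩
  let u₀ : R₀ := ⟨((hunit.unit⁻¹ : Rˣ) : R), Algebra.subset_adjoin (by simp [G])⟩
  have hcc : ∀ q : Polynomial (MvPolynomial σ R₀),
      i₀ (constantCoeff (q.eval (C a₀))) = constantCoeff ((q.map ι).eval (C r₀)) := fun q => by
    rw [← show ι (C a₀) = C r₀ from map_C _ _, Polynomial.eval_map_apply, constantCoeff_map]
  have hM₀ : P₀.HasMap (Ideal.Quotient.mk (orig σ R₀) (C a₀)) := by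
    have h := fun q : Polynomial (MvPolynomial σ R₀) =>
      Polynomial.aeval_algebraMap_apply_eq_algebraMap_eval (A := MvPolynomial σ R₀ ⧸ orig σ R₀) (C a₀) q
    refine ⟨(h f').trans (Ideal.Quotient.eq_zero_iff_mem.2 (hi ?_)), ?_⟩
    · rw [hcc, hf', hroot, map_zero]
    · refine IsUnit.of_mul_eq_one (Ideal.Quotient.mk _ (C u₀)) ((congrArg (· * _) (h g')).trans ?_)
      show Ideal.Quotient.mk (orig σ R₀) (g'.eval (C a₀)) * Ideal.Quotient.mk _ (C u₀) = 1
      rw [← map_mul, ← map_one (Ideal.Quotient.mk (orig σ R₀)), Ideal.Quotient.eq, RingHom.mem_ker, map_sub,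
        map_mul, map_one, constantCoeff_C, sub_eq_zero]
      apply hi
      rw [map_mul, map_one, hcc, hg']
      exact hunit.mul_val_inv
  let e₀ := P₀.lift _ hM₀
  have hι' : ∀ t, orig σ R₀ ^ t ≤ (orig σ R ^ t).comap ι := fun t x hx => (map_mem_orig_pow_iff i₀ hi t x).2 hx
  obtain ⟨w₀, hw₀, hw₀y⟩ := exists_kill_noetherian P₀ e₀ (Polynomial.aeval P₀.X p') fun t φ₀ hφ₀ => by
    obtain ⟨s, hs⟩ := Ideal.Quotient.mk_surjective (φ₀ P₀.X)
    let κ := Ideal.quotientMap (orig σ R ^ (t + 1)) ι (hι' (t + 1))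
    have hκ : Function.Injective κ := by
      refine Ideal.quotientMap_injective' (fun x hx => ?_)
      exact (map_mem_orig_pow_iff i₀ hi (t + 1) x).1 hx
    have hev₀ : ∀ q : Polynomial (MvPolynomial σ R₀),
        φ₀ (Polynomial.aeval P₀.X q) = Ideal.Quotient.mk _ (q.eval s) := fun q => by
      rw [← Polynomial.aeval_algHom_apply, ← hs]
      exact Polynomial.aeval_algebraMap_apply_eq_algebraMap_eval _ _
    have hκe : ∀ q : Polynomial (MvPolynomial σ R₀),
        Polynomial.aeval (Ideal.Quotient.mk (orig σ R ^ (t + 1)) (ι s)) (q.map ι) = κ (φ₀ (Polynomial.aeval P₀.X q)) :=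
      fun q => by
      rw [hev₀, Ideal.quotientMap_mk]
      exact (Polynomial.aeval_algebraMap_apply_eq_algebraMap_eval _ _).trans
        (congrArg _ (Polynomial.eval_map_apply _ _))
    have hM : P.HasMap (Ideal.Quotient.mk (orig σ R ^ (t + 1)) (ι s)) := by
      refine ⟨?_, ?_⟩
      · rw [← hf', hκe, show Polynomial.aeval P₀.X f' = 0 from P₀.hasMap_X.1, map_zero, map_zero]
      · rw [← hg', hκe]
        exact (P₀.hasMap_X.2.map φ₀).map κ
    have hz := hy t (P.lift _ hM) (P.hom_ext (by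
      rw [AlgHom.comp_apply, P.lift_X, heX]
      have h0 := DFunLike.congr_fun hφ₀ P₀.X
      rw [AlgHom.comp_apply, P₀.lift_X, ← hs] at h0
      have h1 : s - C a₀ ∈ orig σ R₀ := Ideal.Quotient.eq.1 h0
      show Ideal.Quotient.mk (orig σ R) (ι s) = _
      rw [Ideal.Quotient.eq]
      have h2 : MvPolynomial.map i₀ (s - C a₀) ∈ orig σ R ^ 1 :=
        (map_mem_orig_pow_iff i₀ hi 1 _).2 (by rwa [pow_one])
      rw [pow_one, map_sub, map_C] at h2
      exact h2))
    rw [← Polynomial.aeval_algHom_apply, P.lift_X, ← hp', hκe] at hz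
    exact hκ (by rw [hz, map_zero])
  -- transport to `P`
  letI : Algebra (MvPolynomial σ R₀) S := ι.toAlgebra
  letI : Algebra (MvPolynomial σ R₀) P.Ring := ((algebraMap S P.Ring).comp ι).toAlgebra
  haveI : IsScalarTower (MvPolynomial σ R₀) S P.Ring := IsScalarTower.of_algebraMap_eq fun _ => rfl
  have hM₁ : P₀.HasMap P.X := by
    refine ⟨?_, ?_⟩
    · rw [← Polynomial.aeval_map_algebraMap S, RingHom.algebraMap_toAlgebra, hf']; exact P.hasMap_X.1
    · rw [← Polynomial.aeval_map_algebraMap S, RingHom.algebraMap_toAlgebra, hg']; exact P.hasMap_X.2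
  let θ := P₀.lift _ hM₁
  refine ⟨θ w₀, ?_, ?_⟩
  · let κ := Ideal.quotientMap (orig σ R) ι (by simpa using hι' 1)
    let κ' : MvPolynomial σ R₀ ⧸ orig σ R₀ →ₐ[MvPolynomial σ R₀] S ⧸ orig σ R :=
      { κ with commutes' := fun x => rfl }
    have h : (e.restrictScalars (MvPolynomial σ R₀)).comp θ = κ'.comp e₀ := P₀.hom_ext (by
      show e (θ P₀.X) = κ (e₀ P₀.X)
      rw [P₀.lift_X, P₀.lift_X, heX, Ideal.quotientMap_mk]
      exact congrArg (Ideal.Quotient.mk (orig σ R)) (map_C i₀ a₀).symm)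
    have h' : e (θ w₀) = κ (e₀ w₀) := DFunLike.congr_fun h w₀
    rw [h', hw₀, map_one]
  · have h := congrArg θ hw₀y
    rw [map_mul, map_zero, ← Polynomial.aeval_algHom_apply, P₀.lift_X, ← Polynomial.aeval_map_algebraMap S,
      RingHom.algebraMap_toAlgebra, hp'] at h
    exact h

end Groth.Agent.QRSmooth5
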