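import Groth.Agent.Lib.QRSmooth5.Section
import Groth.Agent.Lib.RegImm26.RelReg
import Groth.Agent.Lib.CI2.RImmSmooth
import Groth.Agent.Lib.CI2.Ops
import Groth.Agent.Lib.Cyc26.KoszulH1
import Groth.Agent.Lib.QReg.Basic

/-!
A section is quasi-regularly embedded near a point iff the morphism is smooth there.
-/

set_option autoImplicit false
set_option linter.style.haveILetI false
set_option backward.isDefEq.respectTransparency.types false
set_option maxHeartbeats 400000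

universe u

open CategoryTheory CategoryTheory.Limits AlgebraicGeometry TopologicalSpace

namespace Groth.Agent.QRSmooth5

variable {X S : Scheme.{u}} (f : X ⟶ S) (u : S ⟶ X) (hu : u ≫ f = 𝟙 S)

include hu in
theorem isImmersion_section : IsImmersion u :=
  haveI : IsImmersion (u ≫ f) := by rw [hu]; infer_instance
  IsImmersion.of_comp u f

/-- An open immersion is a Koszul morphism. -/
theorem isKoszulAt_openImmersion {Z Y : Scheme.{u}} (j : Z ⟶ Y) [IsOpenImmersion j] (z : Z) :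
    Synt.IsKoszulAt j z := by
  refine ⟨⊤, Z, (⊤ : Z.Opens).ι, j, trivial, inferInstance, ⟨inferInstance, fun y => ?_⟩, inferInstance, rfl⟩
  obtain ⟨_, ⟨V, hV, rfl⟩, hyV, -⟩ :=
    Z.isBasis_affineOpens.exists_subset_of_mem_open (Set.mem_univ ((⊤ : Z.Opens).ι y)) isOpen_univ
  haveI : IsIso (⊤ : Z.Opens).ι := inferInstanceAs (IsIso Z.topIso.hom)
  refine ⟨⟨V, hV⟩, hyV, inferInstance, [], (CI2.isKoszulRegularSeq_iff_ex _).2 (CI2.ex_nil _), ?_⟩
  haveI : IsIso ((⊤ : Z.Opens).ι.app V) := (⊤ : Z.Opens).ι.isIso_app _ (by simp)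
  rw [Ideal.ofList_nil]
  exact (RingHom.injective_iff_ker_eq_bot _).1
    (ConcreteCategory.bijective_of_isIso ((⊤ : Z.Opens).ι.app V)).1

include hu in
/-- Smooth at the section gives a quasi-regular immersion nearby. -/
theorem quasi_of_smooth [LocallyOfFinitePresentation f] (s : S) (hs : u s ∈ f.smoothLocus) :
    ∃ V : S.Opens, s ∈ V ∧ RegImm.IsRegularImmersion RegImm.Kind.quasi (V.ι ≫ u) := by
  haveI := isImmersion_section f u hu
  refine ⟨u ⁻¹ᵁ f.smoothLocus, hs, inferInstance, fun z => ?_⟩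
  let V := u ⁻¹ᵁ f.smoothLocus
  let i := V.ι ≫ u
  let U := f.smoothLocus
  haveI : Smooth (U.ι ≫ f) := by
    rw [← Scheme.Hom.smoothLocus_eq_top_iff, ← Scheme.Hom.preimage_smoothLocus_eq]
    ext x
    simp [U]
  haveI : IsImmersion (i ∣_ U) := inferInstance
  have hcomp : (i ∣_ U) ≫ U.ι ≫ f = (i ⁻¹ᵁ U).ι ≫ V.ι := by
    rw [← Category.assoc, morphismRestrict_ι]
    simp only [i, Category.assoc, hu, Category.comp_id]
  have hk := CI2.koszul_of_isKoszulAt (i ∣_ U) _ (isKoszulAt_openImmersion ((i ⁻¹ᵁ U).ι ≫ V.ι)) (U.ι ≫ f) hcomp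
  have hz : z ∈ i ⁻¹ᵁ U := z.2
  obtain ⟨W, hzW, hcl, rs, hrs, hker⟩ := hk.2 ⟨z, hz⟩
  have hat : RegImm.IsRegularImmersionAt RegImm.Kind.quasi (i ∣_ U) ⟨z, hz⟩ :=
    ⟨W, hzW, hcl, rs, QReg.isQuasiRegular_of_isH1Regular (Cyc26.isH1Regular_of_isKoszulRegularSeq rs hrs), hker⟩
  exact RegImm26.isRegularImmersionAt_of_restrict i U ⟨z, hz⟩ hat

include hu in
/-- A quasi-regular section near a point gives smoothness there. -/
theorem smooth_of_quasi [LocallyOfFinitePresentation f] (s : S) (V : S.Opens) (hs : s ∈ V)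
    (h : RegImm.IsRegularImmersion RegImm.Kind.quasi (V.ι ≫ u)) : u s ∈ f.smoothLocus := by
  haveI := h.1
  let i := V.ι ≫ u
  have hfu : ∀ x, f (u x) = x := fun x => by rw [← Scheme.Hom.comp_apply, hu]; rfl
  obtain ⟨_, ⟨V₀, hV₀, rfl⟩, hsV₀, hV₀V⟩ := S.isBasis_affineOpens.exists_subset_of_mem_open hs V.2
  obtain ⟨⟨U₁, hU₁⟩, hsU₁, hU₁O, hcl, rs, hrs, hker⟩ :=
    RegImm26.exists_small_chart i (Or.inr rfl) ⟨s, hs⟩ (h.2 ⟨s, hs⟩) (O := f ⁻¹ᵁ V₀)
      (show f (u s) ∈ V₀ by rw [hfu]; exact hsV₀)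
  haveI := hcl
  obtain ⟨r, hrle, hsr⟩ := hV₀.exists_basicOpen_le (V := V₀ ⊓ u ⁻¹ᵁ U₁) ⟨s, hsV₀, hsU₁⟩ hsV₀
  let D := S.basicOpen r
  have hD : IsAffineOpen D := hV₀.basicOpen r
  let U₂ := X.basicOpen ((X.presheaf.map (homOfLE hU₁O).op).hom ((f.app V₀).hom r))
  have hU₂eq : U₂ = U₁ ⊓ f ⁻¹ᵁ D := by
    rw [show U₂ = _ from Scheme.basicOpen_res _ _ _, Scheme.preimage_basicOpen]
  have hU₂ : IsAffineOpen U₂ := hU₁.basicOpen _
  have hU₂U₁ : U₂ ≤ U₁ := hU₂eq.le.trans inf_le_left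
  have hU₂D : U₂ ≤ f ⁻¹ᵁ D := hU₂eq.le.trans inf_le_right
  have hDU₂ : D ≤ u ⁻¹ᵁ U₂ := fun x hx => by
    show u x ∈ U₂
    rw [hU₂eq]
    exact ⟨(hrle hx).2, show f (u x) ∈ D by rw [hfu]; exact hx⟩
  have hpre : u ⁻¹ᵁ U₂ = D := le_antisymm (fun x hx => hfu x ▸ hU₂D hx) hDU₂
  have hDV : D ≤ V := fun x hx => hV₀V (hrle hx).1
  have hsU₂ : u s ∈ U₂ := hDU₂ hsr
  -- the chart on `U₂`
  have hle : U₂ ≤ (𝟙 X : X ⟶ X) ⁻¹ᵁ U₁ := hU₂U₁
  letI : Algebra Γ(X, U₁) Γ(X, U₂) := ((𝟙 X : X ⟶ X).appLE U₁ U₂ hle).hom.toAlgebra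
  haveI : Module.Flat Γ(X, U₁) Γ(X, U₂) := Scheme.Hom.flat_appLE (𝟙 X) hU₁ hU₂ hle
  have hk2 := CI2.ker_app_of_isPullback i (𝟙 X) i (𝟙 _) (IsPullback.of_horiz_isIso ⟨by simp⟩) hU₁ hU₂ hle
  rw [hker, ← RegImm26.span_range_get, Ideal.map_span, ← Set.range_comp] at hk2
  let fs : Fin rs.length → Γ(X, U₂) := fun j => algebraMap Γ(X, U₁) Γ(X, U₂) (rs.get j)
  have hqr : CAlgX.IsQuasiRegular fs := RegSeq26.isQuasiRegular_of_flat hrs
  haveI : IsIso (V.ι.app (u ⁻¹ᵁ U₂)) := V.ι.isIso_app _ (by rw [Scheme.Opens.opensRange_ι, hpre]; exact hDV)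
  have hkerU : RingHom.ker (u.app U₂).hom = Ideal.span (Set.range fs) := by
    rw [← RingHom.ker_comp_of_injective (u.app U₂).hom
      (ConcreteCategory.bijective_of_isIso (V.ι.app (u ⁻¹ᵁ U₂))).injective, ← CommRingCat.hom_comp]
    exact hk2
  -- rings
  letI : Algebra Γ(S, D) Γ(X, U₂) := (f.appLE D U₂ hU₂D).hom.toAlgebra
  haveI : Algebra.FinitePresentation Γ(S, D) Γ(X, U₂) := f.finitePresentation_appLE hD hU₂ hU₂D
  have hid : f.appLE D U₂ hU₂D ≫ u.appLE U₂ D hDU₂ = 𝟙 _ := by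
    rw [Scheme.Hom.appLE_comp_appLE]
    have key : ∀ (g : S ⟶ S) (e : D ≤ g ⁻¹ᵁ D), g = 𝟙 S → g.appLE D D e = 𝟙 _ := by
      rintro g e rfl
      rw [Scheme.Hom.appLE, Scheme.Hom.id_app]
      refine (Category.id_comp _).trans ?_
      rw [show (homOfLE e).op = 𝟙 _ from Subsingleton.elim _ _]
      exact S.presheaf.map_id _
    exact key _ _ hu
  let ε : Γ(X, U₂) →ₐ[Γ(S, D)] Γ(S, D) :=
    { (u.appLE U₂ D hDU₂).hom with commutes' := fun a => ConcreteCategory.congr_hom hid a }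
  have hspan : RingHom.ker ε = Ideal.span (Set.range fs) := by
    rw [← hkerU]
    haveI : IsIso (S.presheaf.map (homOfLE hDU₂).op) := by
      have : (homOfLE hDU₂) = eqToHom hpre.symm := Subsingleton.elim _ _
      rw [this]; infer_instance
    exact RingHom.ker_comp_of_injective (u.app U₂).hom
      (ConcreteCategory.bijective_of_isIso (S.presheaf.map (homOfLE hDU₂).op)).injective
  have hsm := isSmoothAt_section ε fs hspan hqr (hD.primeIdealOf ⟨s, hsr⟩).asIdeal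
  rw [Scheme.Hom.mem_smoothLocus, formallySmooth_stalkMap_iff D hD U₂ hU₂ hU₂D hsU₂]
  have hq : (hU₂.primeIdealOf ⟨u s, hsU₂⟩) =
      ⟨(hD.primeIdealOf ⟨s, hsr⟩).asIdeal.comap (ε : Γ(X, U₂) →+* Γ(S, D)), inferInstance⟩ :=
    PrimeSpectrum.ext (congr($(IsAffineOpen.comap_primeIdealOf_appLE U₂ hU₂ D hD (f := u) (x := s) hDU₂ hsr).1).symm)
  rw [hq]
  exact hsm

end Groth.Agent.QRSmooth5

namespace Groth.Agent.QRSmooth5

/-- Regularity at a point only depends on a neighbourhood in the source. -/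
theorem isRegularImmersionAt_of_source_open {Z X : Scheme.{u}} (i : Z ⟶ X) [IsImmersion i] (O : Z.Opens) (z : Z)
    (hz : z ∈ O) (h : RegImm.IsRegularImmersion RegImm.Kind.quasi (O.ι ≫ i)) :
    RegImm.IsRegularImmersionAt RegImm.Kind.quasi i z := by
  haveI := h.1
  obtain ⟨O', hO', hpre⟩ := i.isEmbedding.isInducing.isOpen_iff.1 O.2
  have hzO' : i z ∈ (⟨O', hO'⟩ : X.Opens) := by
    show z ∈ i ⁻¹' O'
    rw [hpre]; exact hz
  obtain ⟨W, hW, hzW, hWO, hcl⟩ := CI2.exists_affine_closed i z hzO'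
  obtain ⟨⟨U, hU⟩, hzU, hUW, hclO, rs, hrs, hker⟩ :=
    RegImm26.exists_small_chart (O.ι ≫ i) (Or.inr rfl) ⟨z, hz⟩ (h.2 ⟨z, hz⟩) (O := W) hzW
  haveI := hcl
  have hle : i ⁻¹ᵁ U ≤ O := fun x hx => by
    have : x ∈ i ⁻¹' O' := hWO (hUW hx)
    rw [hpre] at this
    exact this
  haveI : IsIso (O.ι.app (i ⁻¹ᵁ U)) := O.ι.isIso_app _ (by rw [Scheme.Opens.opensRange_ι]; exact hle)
  refine ⟨⟨U, hU⟩, hzU, CI2.isClosedImmersion_restrict_of_le i hUW, rs, hrs, ?_⟩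
  rw [← hker, ← RingHom.ker_comp_of_injective (i.app U).hom
    (ConcreteCategory.bijective_of_isIso (O.ι.app (i ⁻¹ᵁ U))).injective, ← CommRingCat.hom_comp]
  rfl

end Groth.Agent.QRSmooth5
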