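import Groth.Agent.Lib.QRSmooth5.Smooth
import Groth.Agent.Lib.RegSeq26.FlatBC

/-!
Smoothness along a quasi-regularly embedded section, any base.
-/

set_option autoImplicit false
set_option linter.style.haveILetI false
set_option maxHeartbeats 400000

universe u

open TensorProduct

namespace Groth.Agent.QRSmooth5

/-- A section which is quasi-regularly embedded lands in the smooth locus. -/
theorem isSmoothAt_section {R A : Type u} [CommRing R] [CommRing A] [Algebra R A] [Algebra.FinitePresentation R A]
    (ε : A →ₐ[R] R) {c : ℕ} (f : Fin c → A) (hspan : RingHom.ker ε = Ideal.span (Set.range f))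
    (hqr : CAlgX.IsQuasiRegular f) (p : Ideal R) [p.IsPrime] :
    Algebra.IsSmoothAt R (p.comap (ε : A →+* R)) := by
  let Rp := Localization.AtPrime p
  let M := Algebra.algebraMapSubmonoid A p.primeCompl
  let A' := Localization M
  have hle : p.primeCompl ≤ M.comap (algebraMap R A) := p.primeCompl.le_comap_map
  letI : Algebra Rp A' := (IsLocalization.map (M := p.primeCompl) (T := M) A' (algebraMap R A) hle).toAlgebra
  haveI : IsScalarTower R Rp A' := IsScalarTower.of_algebraMap_eq fun r => by
    rw [RingHom.algebraMap_toAlgebra, IsScalarTower.algebraMap_apply R A A']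
    exact (IsLocalization.map_eq hle r).symm
  haveI : Algebra.IsPushout R Rp A A' := (Algebra.isPushout_of_isLocalization p.primeCompl Rp A A').symm
  haveI : Algebra.FinitePresentation Rp A' := Algebra.FinitePresentation.equiv (Algebra.IsPushout.equiv R Rp A A')
  haveI : Module.Flat A A' := IsLocalization.flat A' M
  have hu : ∀ y : M, IsUnit (((algebraMap R Rp).comp (ε : A →+* R)) y) := by
    rintro ⟨_, r, hr, rfl⟩
    show IsUnit (algebraMap R Rp (ε (algebraMap R A r)))
    rw [AlgHom.commutes]
    exact IsLocalization.map_units Rp ⟨r, hr⟩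
  let ε₀ : A' →+* Rp := IsLocalization.lift hu
  have hε₀ : ∀ a, ε₀ (algebraMap A A' a) = algebraMap R Rp (ε a) := fun a => IsLocalization.lift_eq hu a
  let ε' : A' →ₐ[Rp] Rp :=
    { ε₀ with
      commutes' := fun x => by
        have h : ε₀.comp (algebraMap Rp A') = RingHom.id Rp :=
          IsLocalization.ringHom_ext p.primeCompl (RingHom.ext fun r => by
            show ε₀ (algebraMap Rp A' (algebraMap R Rp r)) = algebraMap R Rp r
            rw [← IsScalarTower.algebraMap_apply R Rp A', IsScalarTower.algebraMap_apply R A A', hε₀,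
              AlgHom.commutes]
            rfl)
        exact congrArg (fun g : Rp →+* Rp => g x) h }
  let f' : Fin c → A' := fun i => algebraMap A A' (f i)
  have hspan' : RingHom.ker ε' = Ideal.span (Set.range f') := by
    have h1 : Ideal.span (Set.range f') = (RingHom.ker ε).map (algebraMap A A') := by
      rw [hspan, Ideal.map_span, ← Set.range_comp]; rfl
    refine le_antisymm (fun z hz => ?_) ?_
    · obtain ⟨a, ⟨_, r, hr, rfl⟩, rfl⟩ := IsLocalization.exists_mk'_eq M z
      have h2 : ε₀ (algebraMap A A' a) = 0 := by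
        rw [← IsLocalization.mk'_spec A' a (⟨_, r, hr, rfl⟩ : M), map_mul]
        have : ε₀ (IsLocalization.mk' A' a (⟨_, r, hr, rfl⟩ : M)) = 0 := hz
        rw [this, zero_mul]
      rw [hε₀] at h2
      obtain ⟨⟨s, hs⟩, hs0⟩ := (IsLocalization.map_eq_zero_iff p.primeCompl Rp (ε a)).1 h2
      have h3 : algebraMap R A s * a ∈ RingHom.ker ε := by
        rw [RingHom.mem_ker, map_mul, AlgHom.commutes]; exact hs0
      have h4 := Ideal.mem_map_of_mem (algebraMap A A') h3
      rw [map_mul, ← IsLocalization.mk'_spec A' a (⟨_, r, hr, rfl⟩ : M)] at h4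
      rw [h1]
      exact (Ideal.mul_unit_mem_iff_mem _ (IsLocalization.map_units A' (⟨_, r, hr, rfl⟩ : M))).1
        ((Ideal.unit_mul_mem_iff_mem _ (IsLocalization.map_units A' (⟨_, s, hs, rfl⟩ : M))).1 h4)
    · rw [Ideal.span_le]
      rintro _ ⟨i, rfl⟩
      show ε₀ (algebraMap A A' (f i)) = 0
      rw [hε₀, eps_apply_eq_zero ε f hspan, map_zero]
  have hsm := isSmoothAt_of_quasiRegular ε' f' hspan' (RegSeq26.isQuasiRegular_of_flat hqr)
  let q' : Ideal A' := (IsLocalRing.maximalIdeal Rp).comap (ε' : A' →+* Rp)
  have hq : p.comap (ε : A →+* R) = q'.comap (algebraMap A A') := by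
    ext a
    show ε a ∈ p ↔ ε₀ (algebraMap A A' a) ∈ IsLocalRing.maximalIdeal Rp
    rw [hε₀]
    exact (IsLocalization.AtPrime.to_map_mem_maximal_iff Rp p (ε a)).symm
  haveI : IsLocalization.AtPrime (Localization.AtPrime q') (p.comap (ε : A →+* R)) := by
    convert IsLocalization.isLocalization_isLocalization_atPrime_isLocalization M (Localization.AtPrime q') q'
  haveI : Algebra.FormallySmooth R Rp := Algebra.FormallySmooth.of_isLocalization p.primeCompl
  haveI : Algebra.FormallySmooth Rp (Localization.AtPrime q') := hsm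
  haveI : Algebra.FormallySmooth R (Localization.AtPrime q') := Algebra.FormallySmooth.comp R Rp _
  exact Algebra.FormallySmooth.of_equiv
    ((IsLocalization.algEquiv (p.comap (ε : A →+* R)).primeCompl (Localization.AtPrime q') _).restrictScalars R)

end Groth.Agent.QRSmooth5
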