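import Groth.Prelude
import Groth.Agent.Lib.QRSmooth5.Formal
import Mathlib.RingTheory.Unramified.LocalStructure
import Mathlib.RingTheory.Smooth.Locus

/-!
Smoothness along a quasi-regularly embedded section.
-/

set_option autoImplicit false
set_option linter.style.haveILetI false
set_option maxHeartbeats 400000

universe u

open MvPolynomial

namespace Groth.Agent.QRSmooth5

section

variable {R A : Type u} [CommRing R] [CommRing A] [Algebra R A] (ε : A →ₐ[R] R) {c : ℕ} (f : Fin c → A)
  (hspan : RingHom.ker ε = Ideal.span (Set.range f))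

include hspan in
theorem eps_apply_eq_zero (i : Fin c) : ε (f i) = 0 :=
  RingHom.mem_ker.1 (hspan ▸ Ideal.subset_span ⟨i, rfl⟩)

include hspan in
theorem eps_aeval (P : MvPolynomial (Fin c) R) : ε (aeval f P) = constantCoeff P := by
  rw [MvPolynomial.comp_aeval_apply,
    show (fun i => ε (f i)) = (0 : Fin c → R) from funext (eps_apply_eq_zero ε f hspan), aeval_zero]
  rfl

include hspan in
theorem orig_le_comap : orig (Fin c) R ≤ (RingHom.ker ε).comap (aeval f) := fun P hP => by
  rw [Ideal.mem_comap, RingHom.mem_ker, eps_aeval ε f hspan]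
  exact hP

include hspan in
/-- Quasi-regularity of an augmentation: coefficients of low degree are determined. -/
theorem mem_orig_pow_of_aeval_mem (hqr : CAlgX.IsQuasiRegular f) (t : ℕ) (P : MvPolynomial (Fin c) R)
    (h : aeval f P ∈ RingHom.ker ε ^ t) : P ∈ orig (Fin c) R ^ t := by
  induction t with
  | zero => simp
  | succ t ih =>
    have hPt := ih (Ideal.pow_le_pow_right t.le_succ h)
    rw [orig_eq, mem_pow_idealOfVars_iff'] at hPt ⊢
    intro d hd
    by_cases hd' : d.degree < t
    · exact hPt d hd'
    have hdt : d.degree = t := by omega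
    have hrest : P - homogeneousComponent t P ∈ idealOfVars (Fin c) R ^ (t + 1) := by
      rw [mem_pow_idealOfVars_iff']
      intro x hx
      rw [coeff_sub, coeff_homogeneousComponent]
      by_cases hxt : x.degree = t
      · rw [if_pos hxt, sub_self]
      · rw [if_neg hxt, sub_zero, hPt x (by omega)]
    have h1 : aeval f (P - homogeneousComponent t P) ∈ RingHom.ker ε ^ (t + 1) := by
      rw [← orig_eq] at hrest
      have h2 := Ideal.mem_map_of_mem (aeval f : MvPolynomial (Fin c) R →ₐ[R] A) hrest
      rw [Ideal.map_pow] at h2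
      exact Ideal.pow_right_mono (Ideal.map_le_iff_le_comap.2 (orig_le_comap ε f hspan)) _ h2
    have h3 : aeval f (homogeneousComponent t P) ∈ RingHom.ker ε ^ (t + 1) := by
      have := sub_mem h h1
      rwa [map_sub, sub_sub_cancel] at this
    have h4 := hqr t (MvPolynomial.map (algebraMap R A) (homogeneousComponent t P))
      ((homogeneousComponent_isHomogeneous t P).map _) (by
        rw [MvPolynomial.eval_map, ← hspan]; exact h3) d
    rw [← hspan, coeff_map, coeff_homogeneousComponent, if_pos hdt, RingHom.mem_ker, AlgHom.commutes] at h4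
    exact h4

variable [IsLocalRing R] [Algebra.FinitePresentation R A]

include hspan in
/-- Smoothness along a quasi-regular section, over a local base. -/
theorem isSmoothAt_of_quasiRegular (hqr : CAlgX.IsQuasiRegular f) :
    Algebra.IsSmoothAt R ((IsLocalRing.maximalIdeal R).comap (ε : A →+* R)) := by
  classical
  let q : Ideal A := (IsLocalRing.maximalIdeal R).comap (ε : A →+* R)
  let S := MvPolynomial (Fin c) R
  letI : Algebra S A := (aeval f : S →ₐ[R] A).toRingHom.toAlgebra
  haveI : IsScalarTower R S A := IsScalarTower.of_algebraMap_eq fun r => ((aeval f).commutes r).symm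
  haveI : Algebra.FinitePresentation S A :=
    Algebra.FinitePresentation.of_restrict_scalars_finitePresentation R S A
  have hI : RingHom.ker ε ≤ q := fun a ha => by
    show ε a ∈ IsLocalRing.maximalIdeal R
    rw [RingHom.mem_ker.1 ha]; exact zero_mem _
  -- unramified over the polynomial ring at `q`
  haveI : Algebra.IsUnramifiedAt S q := by
    have hle : (⊤ : Submodule A Ω[A⁄S]) ≤ RingHom.ker ε • (⊤ : Submodule A Ω[A⁄S]) := by
      rw [← KaehlerDifferential.span_range_derivation S A, Submodule.span_le]
      rintro _ ⟨a, rfl⟩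
      have ha : a - algebraMap R A (ε a) ∈ RingHom.ker ε := by
        rw [RingHom.mem_ker, map_sub, AlgHom.commutes]; exact sub_self _
      rw [hspan, Submodule.mem_span_range_iff_exists_fun] at ha
      obtain ⟨w, hw⟩ := ha
      have ha' : a = algebraMap S A (C (ε a)) + ∑ i, w i * algebraMap S A (X i) := by
        have h1 : ∑ i, w i * algebraMap S A (X i) = a - algebraMap R A (ε a) := by
          rw [← hw]
          refine Finset.sum_congr rfl fun i _ => ?_
          rw [smul_eq_mul]
          exact congrArg (w i * ·) (aeval_X f i)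
        rw [h1, show algebraMap S A (C (ε a)) = algebraMap R A (ε a) from aeval_C f _, add_sub_cancel]
      show KaehlerDifferential.D S A a ∈ _
      rw [ha', map_add, Derivation.map_algebraMap, zero_add, map_sum]
      refine Submodule.sum_mem _ fun i _ => ?_
      rw [Derivation.leibniz, Derivation.map_algebraMap, smul_zero, zero_add]
      refine Submodule.smul_mem_smul ?_ ?_
      · rw [RingHom.mem_ker, show algebraMap S A (X i) = f i from aeval_X f i]
        exact eps_apply_eq_zero ε f hspan i
      · rw [KaehlerDifferential.span_range_derivation]; exact Submodule.mem_top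
    obtain ⟨r, hr, hr0⟩ := Submodule.exists_sub_one_mem_and_smul_eq_zero_of_fg_of_le_smul (RingHom.ker ε) ⊤
      Module.Finite.fg_top hle
    show (⟨q, inferInstance⟩ : PrimeSpectrum A) ∈ Algebra.unramifiedLocus S A
    rw [Algebra.unramifiedLocus_eq_compl_support, Set.mem_compl_iff, Module.mem_support_iff_of_finite]
    intro hann
    have hrq : r ∈ q := hann (Module.mem_annihilator.2 fun m => hr0 m Submodule.mem_top)
    exact Ideal.IsPrime.ne_top (I := q) inferInstance
      ((Ideal.eq_top_iff_one _).2 (by simpa using sub_mem hrq (hI hr)))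
  obtain ⟨h, hhq, P, φ, hφ⟩ := Algebra.IsUnramifiedAt.exists_hasStandardEtaleSurjectionOn (R := S) q
  let B := Localization.Away h
  have hεh : IsUnit (ε h) := IsLocalRing.notMem_maximalIdeal.1 hhq
  let c₀ : R →+* S ⧸ orig (Fin c) R := (Ideal.Quotient.mk _).comp C
  let ε₁ : A →ₐ[S] S ⧸ orig (Fin c) R :=
    { c₀.comp (ε : A →+* R) with
      commutes' := fun s => by
        show Ideal.Quotient.mk _ (C (ε (aeval f s))) = Ideal.Quotient.mk _ s
        rw [eps_aeval ε f hspan, Ideal.Quotient.eq, RingHom.mem_ker, map_sub, constantCoeff_C, sub_self] }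
  have hu₁ : ∀ y : Submonoid.powers h, IsUnit (ε₁ y) := fun ⟨_, n, rfl⟩ => by
    simp only [map_pow]
    exact ((hεh.map c₀).pow n)
  let eB : B →ₐ[S] S ⧸ orig (Fin c) R := IsLocalization.liftAlgHom (M := Submonoid.powers h) hu₁
  let e := eB.comp φ
  -- the kernel dies near the point
  have hkill : ∀ y : P.Ring, φ y = 0 → ∃ w, e w = 1 ∧ w * y = 0 := fun y hy => by
    refine exists_kill P e y fun t ψ hψ => ?_
    have hM : orig (Fin c) R ^ (t + 1) ≤ (RingHom.ker ε ^ (t + 1)).comap (algebraMap S A) := fun s hs =>
      Ideal.pow_right_mono (Ideal.map_le_iff_le_comap.2 (orig_le_comap ε f hspan)) _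
        (by rw [← Ideal.map_pow]; exact Ideal.mem_map_of_mem _ hs)
    let i : S ⧸ orig (Fin c) R ^ (t + 1) →ₐ[S] A ⧸ RingHom.ker ε ^ (t + 1) :=
      { Ideal.quotientMap _ (algebraMap S A) hM with commutes' := fun s => rfl }
    have hi : Function.Injective i :=
      Ideal.quotientMap_injective' (H := hM) fun s hs => mem_orig_pow_of_aeval_mem ε f hspan hqr _ s hs
    let fac : A ⧸ RingHom.ker ε ^ (t + 1) →ₐ[S] A ⧸ RingHom.ker ε :=
      Ideal.Quotient.factorₐ S (Ideal.pow_le_self t.succ_ne_zero)
    have hfac : IsNilpotent (RingHom.ker fac) := isNilpotent_ker_factor _ (Ideal.pow_le_self t.succ_ne_zero)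
    have hu₂ : ∀ y : Submonoid.powers h, IsUnit (Ideal.Quotient.mkₐ S (RingHom.ker ε ^ (t + 1)) y) := by
      rintro ⟨_, n, rfl⟩
      simp only [map_pow]
      refine IsUnit.pow n ?_
      obtain ⟨v, hv⟩ := hεh
      obtain ⟨N, hN⟩ := hfac
      have hz : IsNilpotent (Ideal.Quotient.mk (RingHom.ker ε ^ (t + 1)) (h - algebraMap R A v)) :=
        ⟨N, by
          have hm : Ideal.Quotient.mk (RingHom.ker ε ^ (t + 1)) (h - algebraMap R A v) ∈ RingHom.ker fac := by
            rw [RingHom.mem_ker]
            show Ideal.Quotient.mk (RingHom.ker ε) (h - algebraMap R A v) = 0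
            rw [Ideal.Quotient.eq_zero_iff_mem, RingHom.mem_ker, map_sub, AlgHom.commutes, hv]
            exact sub_self _
          have := Ideal.pow_mem_pow hm N
          rw [hN] at this
          exact this⟩
      have hv' : IsUnit (Ideal.Quotient.mk (RingHom.ker ε ^ (t + 1)) (algebraMap R A v)) :=
        (v.isUnit.map (algebraMap R A)).map _
      have := hz.isUnit_add_left_of_commute hv' (Commute.all _ _)
      rwa [← map_add, add_sub_cancel] at this
    let ρ : B →ₐ[S] A ⧸ RingHom.ker ε ^ (t + 1) := IsLocalization.liftAlgHom (M := Submonoid.powers h) hu₂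
    let ι : S ⧸ orig (Fin c) R →ₐ[S] A ⧸ RingHom.ker ε :=
      { Ideal.quotientMap _ (algebraMap S A) (orig_le_comap ε f hspan) with commutes' := fun s => rfl }
    have hιe : ι.comp eB = fac.comp ρ := by
      refine IsLocalization.algHom_ext (Submonoid.powers h) ?_
      refine AlgHom.ext fun a => ?_
      show ι (eB (algebraMap A B a)) = fac (ρ (algebraMap A B a))
      rw [show eB (algebraMap A B a) = ε₁ a from IsLocalization.lift_eq _ a,
        show ρ (algebraMap A B a) = Ideal.Quotient.mk _ a from IsLocalization.lift_eq _ a]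
      show Ideal.Quotient.mk (RingHom.ker ε) (algebraMap S A (C (ε a))) = Ideal.Quotient.mk _ a
      rw [Ideal.Quotient.eq, RingHom.mem_ker, map_sub, show algebraMap S A (C (ε a)) = algebraMap R A (ε a) from
        aeval_C f _, AlgHom.commutes]
      exact sub_self _
    have hcmp : i.comp ψ = ρ.comp φ := by
      refine Algebra.FormallyUnramified.lift_unique' fac hfac _ _ ?_
      rw [← AlgHom.comp_assoc fac ρ, ← hιe, AlgHom.comp_assoc, ← AlgHom.comp_assoc fac i,
        show fac.comp i = ι.comp (Ideal.Quotient.factorₐ S (Ideal.pow_le_self t.succ_ne_zero)) from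
          Ideal.Quotient.algHom_ext _ (AlgHom.ext fun s => rfl), AlgHom.comp_assoc, hψ]
    refine hi ?_
    rw [map_zero, ← AlgHom.comp_apply, hcmp, AlgHom.comp_apply, hy, map_zero]
  obtain ⟨G, hG⟩ := Algebra.FinitePresentation.ker_fG_of_surjective φ hφ
  choose w hw1 hw0 using hkill
  let U : P.Ring := ∏ y ∈ G.attach, w y.1 (RingHom.mem_ker.1 (hG ▸ Ideal.subset_span y.2))
  have hU : e U = 1 := by
    rw [map_prod]; exact Finset.prod_eq_one fun y _ => hw1 _ _
  have hU0 : ∀ z, φ z = 0 → U * z = 0 := by
    intro z hz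
    have hz' : z ∈ Ideal.span (G : Set P.Ring) := by
      rw [show Ideal.span (G : Set P.Ring) = RingHom.ker φ.toRingHom from hG]; exact hz
    induction hz' using Submodule.span_induction with
    | mem x hx =>
      show U * x = 0
      have hx' : U = _ * _ := (Finset.prod_erase_mul G.attach _ (Finset.mem_attach _ ⟨x, hx⟩)).symm
      rw [hx', mul_assoc]
      simp only [hw0, mul_zero]
    | zero => exact mul_zero U
    | add a b ha hb iha ihb =>
      rw [mul_add, iha (RingHom.mem_ker.1 (hG ▸ ha)), ihb (RingHom.mem_ker.1 (hG ▸ hb)), add_zero]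
    | smul r a ha iha =>
      rw [smul_eq_mul, mul_left_comm, iha (RingHom.mem_ker.1 (hG ▸ ha)), mul_zero]
  -- the localisation
  let Bu := Localization.Away (φ U)
  let g : Localization.Away U →ₐ[S] Bu :=
    IsLocalization.liftAlgHom (M := Submonoid.powers U) (f := (IsScalarTower.toAlgHom S B Bu).comp φ)
      (fun ⟨_, n, rfl⟩ => by
        simp only [map_pow]
        exact (IsLocalization.Away.algebraMap_isUnit (φ U)).pow n)
  have hg : Function.Bijective g := by
    have hg' : ∀ y, g (algebraMap P.Ring _ y) = algebraMap B Bu (φ y) := fun y => IsLocalization.lift_eq _ y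
    constructor
    · rw [injective_iff_map_eq_zero]
      intro z hz
      obtain ⟨⟨y, ⟨_, n, rfl⟩⟩, hy⟩ := IsLocalization.surj (Submonoid.powers U) z
      have h1 := congrArg g hy
      rw [map_mul, hz, zero_mul, hg'] at h1
      obtain ⟨⟨_, m, rfl⟩, hm⟩ := (IsLocalization.map_eq_zero_iff (Submonoid.powers (φ U)) Bu _).1 h1.symm
      have h2 := hU0 (U ^ m * y) (by rw [map_mul, map_pow]; exact hm)
      have h3 : algebraMap P.Ring (Localization.Away U) y = 0 :=
        (IsLocalization.map_eq_zero_iff (Submonoid.powers U) _ y).2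
          ⟨⟨U ^ (m + 1), m + 1, rfl⟩, by
            show U ^ (m + 1) * y = 0
            rw [pow_succ', mul_assoc]; exact h2⟩
      rw [h3] at hy
      exact ((IsLocalization.map_units (Localization.Away U) _).mul_left_eq_zero).1 hy
    · intro z
      obtain ⟨⟨b, ⟨_, n, rfl⟩⟩, hb⟩ := IsLocalization.surj (Submonoid.powers (φ U)) z
      obtain ⟨y, rfl⟩ := hφ b
      obtain ⟨v, hv⟩ := (IsLocalization.Away.algebraMap_isUnit (S := Localization.Away U) U).pow n
      refine ⟨algebraMap P.Ring _ y * ↑v⁻¹, ?_⟩
      have hgv : g (v : Localization.Away U) = algebraMap B Bu (φ U ^ n) := by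
        rw [hv, map_pow, hg', map_pow]
      refine (v.isUnit.map g).mul_left_inj.1 ?_
      rw [← map_mul, mul_assoc, v.inv_mul, mul_one, hg', hgv]
      exact hb.symm
  haveI : Algebra.Etale S Bu := Algebra.Etale.of_equiv (AlgEquiv.ofBijective g hg)
  haveI : Algebra.Smooth R S := ⟨inferInstanceAs (Algebra.FormallySmooth R (MvPolynomial (Fin c) R)),
    inferInstanceAs (Algebra.FinitePresentation R (MvPolynomial (Fin c) R))⟩
  haveI : Algebra.Smooth R Bu := Algebra.Smooth.comp R S Bu
  haveI : Algebra.FinitePresentation A B := IsLocalization.Away.finitePresentation h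
  haveI : Algebra.FinitePresentation R B := .trans R A B
  -- the point
  let cc : S ⧸ orig (Fin c) R →+* R := Ideal.Quotient.lift (orig (Fin c) R) constantCoeff fun a ha => ha
  let qB : PrimeSpectrum B := ⟨(IsLocalRing.maximalIdeal R).comap (cc.comp (eB : B →+* _)), inferInstance⟩
  have hUq : qB ∈ PrimeSpectrum.basicOpen (φ U) := by
    show cc (eB (φ U)) ∉ IsLocalRing.maximalIdeal R
    rw [show eB (φ U) = 1 from hU, map_one]
    exact (IsLocalRing.maximalIdeal R).ne_top_iff_one.1 (IsLocalRing.maximalIdeal.isMaximal R).ne_top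
  have hsm : qB ∈ Algebra.smoothLocus R B :=
    (Algebra.basicOpen_subset_smoothLocus_iff_smooth (R := R)).2 inferInstance hUq
  rw [← Algebra.smoothLocus_comap_of_isLocalization h] at hsm
  have hq : (PrimeSpectrum.comap (algebraMap A B) qB) = ⟨q, inferInstance⟩ := by
    ext a
    show cc (eB (algebraMap A B a)) ∈ IsLocalRing.maximalIdeal R ↔ ε a ∈ IsLocalRing.maximalIdeal R
    rw [show eB (algebraMap A B a) = ε₁ a from IsLocalization.lift_eq _ a,
      show cc (ε₁ a) = ε a from constantCoeff_C _ (ε a)]
  rw [Set.mem_preimage, hq] at hsm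
  exact hsm

end

end Groth.Agent.QRSmooth5
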